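import Groth.Agent.ClopenFFLib.Basic
import Mathlib.AlgebraicGeometry.Morphisms.Etale
import Mathlib.AlgebraicGeometry.Morphisms.Finite
import Mathlib.RingTheory.Finiteness.Projective
import Mathlib.RingTheory.Flat.EquationalCriterion

/-!
# Clopen subsets of finite étale covers along morphisms with `O_S = f_* O_X`
-/

set_option autoImplicit false
set_option linter.style.haveILetI false

universe u

open CategoryTheory CategoryTheory.Limits AlgebraicGeometry TopologicalSpace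

noncomputable section

namespace ClopenFFLib

theorem exists_idem {X : Scheme.{u}} {U : Set X} (hU : IsClopen U) :
    ∃ e : Γ(X, ⊤), IsIdempotentElem e ∧ (X.basicOpen e : Set X) = U := by
  let U₁ : X.Opens := ⟨U, hU.isOpen⟩
  let U₀ : X.Opens := ⟨Uᶜ, hU.isClosed.isOpen_compl⟩
  have htop : U₁ ⊔ U₀ = ⊤ := TopologicalSpace.Opens.ext (Set.union_compl_self U)
  have hbot : ∀ W : X.Opens, W ≤ U₁ → W ≤ U₀ → ∀ a b : Γ(X, W), a = b := fun W h₁ h₀ a b ↦ by
    haveI : Subsingleton Γ(X, W) := by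
      have : W = ⊥ := eq_bot_iff.mpr fun x hx ↦ (h₀ hx) (h₁ hx)
      subst this
      infer_instance
    exact Subsingleton.elim a b
  let cov : Bool → X.Opens := fun b ↦ cond b U₁ U₀
  have hcov : (⊤ : X.Opens) ≤ iSup cov := by rw [← htop, iSup_bool_eq]; rfl
  let sf : ∀ b : Bool, Γ(X, cov b) := fun b ↦
    match b with
    | true => 1
    | false => 0
  obtain ⟨e₀, he₀, -⟩ := TopCat.Sheaf.existsUnique_gluing' X.sheaf cov ⊤ (fun _ ↦ homOfLE le_top) hcov sf
    (fun b b' ↦ by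
      match b, b' with
      | true, true => rfl
      | false, false => rfl
      | true, false => exact hbot _ inf_le_left inf_le_right _ _
      | false, true => exact hbot _ inf_le_right inf_le_left _ _)
  obtain ⟨e, h1, h0⟩ : ∃ e : Γ(X, ⊤), X.presheaf.map (homOfLE (le_top : U₁ ≤ ⊤)).op e = 1 ∧
      X.presheaf.map (homOfLE (le_top : U₀ ≤ ⊤)).op e = 0 := ⟨e₀, he₀ true, he₀ false⟩
  refine ⟨e, ?_, ?_⟩
  · refine TopCat.Sheaf.eq_of_locally_eq' X.sheaf cov ⊤ (fun _ ↦ homOfLE le_top) hcov _ _ fun b ↦ ?_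
    cases b
    · show X.presheaf.map (homOfLE (le_top : U₀ ≤ ⊤)).op (e * e) = _
      rw [map_mul, h0, mul_zero]; exact h0.symm
    · show X.presheaf.map (homOfLE (le_top : U₁ ≤ ⊤)).op (e * e) = _
      rw [map_mul, h1, mul_one]; exact h1.symm
  · ext x
    by_cases hx : x ∈ U
    · refine iff_of_true ?_ hx
      have h : x ∈ X.basicOpen (X.presheaf.map (homOfLE (le_top : U₁ ≤ ⊤)).op e) := by
        rw [h1, Scheme.basicOpen_of_isUnit _ isUnit_one]; exact hx
      rw [Scheme.basicOpen_res] at h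
      exact h.2
    · refine iff_of_false (fun h ↦ ?_) hx
      have h' : x ∈ X.basicOpen (X.presheaf.map (homOfLE (le_top : U₀ ≤ ⊤)).op e) := by
        rw [Scheme.basicOpen_res]; exact ⟨hx, h⟩
      rw [h0, Scheme.basicOpen_zero] at h'
      exact h'

theorem eq_zero_of_idem {T : Scheme.{u}} {a : Γ(T, ⊤)} (ha : a * a = a)
    (h : T.basicOpen a = ⊥) : a = 0 := by
  have hu : IsUnit (1 - a) := T.toRingedSpace.isUnit_of_isUnit_germ ⊤ _ fun x hx ↦
    (T.mem_basicOpen _ x hx).1 (by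
      by_contra hn
      have h1 := (T.evaluation_eq_zero_iff_notMem_basicOpen (U := ⊤) x trivial (1 - a)).mpr hn
      have h2 := (T.evaluation_eq_zero_iff_notMem_basicOpen (U := ⊤) x trivial a).mpr
        fun hx' ↦ (h.le hx' : x ∈ (⊥ : T.Opens))
      rw [map_sub, map_one, h2, sub_zero] at h1
      exact one_ne_zero h1)
  exact hu.mul_left_eq_zero.mp (by rw [mul_sub, mul_one, ha, sub_self])

theorem idem_eq_of_forall {T : Scheme.{u}} {a b : Γ(T, ⊤)} (ha : a * a = a) (hb : b * b = b)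
    (h₁ : T.basicOpen (a * (1 - b)) = ⊥) (h₂ : T.basicOpen (b * (1 - a)) = ⊥) : a = b := by
  have e₁ := eq_zero_of_idem
    (by linear_combination (1 - b) ^ 2 * ha + a * hb : a * (1 - b) * (a * (1 - b)) = a * (1 - b)) h₁
  have e₂ := eq_zero_of_idem
    (by linear_combination (1 - a) ^ 2 * hb + b * ha : b * (1 - a) * (b * (1 - a)) = b * (1 - a)) h₂
  linear_combination e₁ - e₂

theorem idem_eq_of_basicOpen_eq {X : Scheme.{u}} {a b : Γ(X, ⊤)} (ha : IsIdempotentElem a)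
    (hb : IsIdempotentElem b) (h : X.basicOpen a = X.basicOpen b) : a = b := by
  have key : ∀ c : Γ(X, ⊤), IsIdempotentElem c → X.basicOpen c ⊓ X.basicOpen (1 - c) = ⊥ := fun c hc => by
    rw [← Scheme.basicOpen_mul, mul_sub, mul_one, hc.eq, sub_self, Scheme.basicOpen_zero]
  refine idem_eq_of_forall ha.eq hb.eq ?_ ?_
  · rw [Scheme.basicOpen_mul, h]; exact key b hb
  · rw [Scheme.basicOpen_mul, ← h]; exact key a ha

/-- Clopen subsets descend along morphisms which are bijective on global functions. -/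
theorem existsUnique_clopen_of_appTop {P Y : Scheme.{u}} (h : P ⟶ Y) (hb : Function.Bijective h.appTop)
    (C' : Clopens P) : ∃! C : Clopens Y, h.base ⁻¹' (C : Set Y) = C' := by
  obtain ⟨r, hr, hrC⟩ := exists_idem C'.isClopen
  obtain ⟨e, rfl⟩ := hb.2 r
  have he : IsIdempotentElem e := hb.1 (by rw [map_mul]; exact hr)
  have hcl : IsClopen (Y.basicOpen e : Set Y) := by
    refine ⟨⟨?_⟩, (Y.basicOpen e).2⟩
    convert (Y.basicOpen (1 - e)).2 using 1
    ext y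
    constructor
    · intro hy
      by_contra hn
      have h1 := (Y.evaluation_eq_zero_iff_notMem_basicOpen (U := ⊤) y trivial (1 - e)).mpr hn
      have h2 := (Y.evaluation_eq_zero_iff_notMem_basicOpen (U := ⊤) y trivial e).mpr hy
      rw [map_sub, map_one, h2, sub_zero] at h1
      exact one_ne_zero h1
    · intro hy hy'
      have h3 : y ∈ Y.basicOpen e ⊓ Y.basicOpen (1 - e) := ⟨hy', hy⟩
      rw [← Scheme.basicOpen_mul, mul_sub, mul_one, he.eq, sub_self, Scheme.basicOpen_zero] at h3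
      exact h3
  have hpre : ∀ c, h ⁻¹ᵁ Y.basicOpen c = P.basicOpen (h.appTop c) := fun c => Scheme.preimage_basicOpen h c
  refine ⟨⟨Y.basicOpen e, hcl⟩, ?_, fun D hD => SetLike.coe_injective ?_⟩
  · show ((h ⁻¹ᵁ Y.basicOpen e : P.Opens) : Set P) = C'
    rw [hpre, hrC]
  · obtain ⟨d, hd, hdD⟩ := exists_idem D.isClopen
    show (D : Set Y) = Y.basicOpen e
    rw [← hdD]
    refine congrArg (fun c => (Y.basicOpen c : Set Y)) (hb.1 (idem_eq_of_basicOpen_eq (hd.map _) hr ?_))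
    refine TopologicalSpace.Opens.ext ?_
    rw [← hpre, hrC, ← hD, ← hdD]
    rfl

/-- Base change of `O_S = f_* O_X` along a finite étale morphism, over an affine open. -/
theorem app_bijective {X S Y P : Scheme.{u}} {f : X ⟶ S} {g : Y ⟶ S} {pr : P ⟶ Y} {p : P ⟶ X}
    (H : IsPullback pr p g f) [IsFinite g] [Etale g] {U : S.Opens} (hU : IsAffineOpen U)
    (hf : Function.Bijective (f.app U)) : Function.Bijective (pr.app (g ⁻¹ᵁ U)) := by
  let A := Γ(S, U)
  let B := Γ(Y, g ⁻¹ᵁ U)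
  have hV : IsAffineOpen (g ⁻¹ᵁ U) := hU.preimage g
  let φA : A ⟶ B := g.appLE U (g ⁻¹ᵁ U) le_rfl
  letI : Algebra A B := φA.hom.toAlgebra
  haveI : Algebra.Etale A B :=
    RingHom.etale_algebraMap.1 (HasRingHomProperty.appLE @Etale g ‹_› ⟨U, hU⟩ ⟨g ⁻¹ᵁ U, hV⟩ le_rfl)
  haveI : Module.Finite A B := by
    rw [← RingHom.finite_algebraMap]
    show φA.hom.Finite
    rw [show φA = g.app U from (Scheme.Hom.app_eq_appLE g).symm]
    exact g.finite_app U hU
  haveI : Module.FinitePresentation A B := .of_finite_of_finitePresentation A B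
  haveI : Module.Projective A B := Module.Flat.projective_of_finitePresentation
  obtain ⟨n, F, G, -, -, hFG⟩ := Module.Finite.exists_comp_eq_id_of_projective (R := A) (M := B)
  let φ : Fin n → B →ₗ[A] A := fun i => (LinearMap.proj i).comp G
  let e : Fin n → B := fun i => F (Pi.single i 1)
  have hexp : ∀ b : B, ∑ i, φ i b • e i = b := fun b => by
    conv_rhs => rw [← show F (G b) = b from LinearMap.congr_fun hFG b]
    rw [show G b = ∑ i, φ i b • Pi.single i (1 : A) from (pi_eq_sum_univ' (G b)), map_sum]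
    simp [e]
  -- The local coordinates.
  let ι := {T : X.affineOpens // T.1 ≤ f ⁻¹ᵁ U}
  let PT : ι → P.Opens := fun T => pr ⁻¹ᵁ (g ⁻¹ᵁ U) ⊓ p ⁻¹ᵁ T.1.1
  let res : ∀ {T T' : ι}, T'.1.1 ≤ T.1.1 → PT T' ≤ PT T := fun h => inf_le_inf le_rfl (p.preimage_mono h)
  have hcoord : ∀ T : ι, ∃ ψ : Fin n → Γ(P, PT T) →+ Γ(X, T.1.1),
      (∀ i b, ψ i (pr.appLE (g ⁻¹ᵁ U) (PT T) inf_le_left b) = f.appLE U T.1.1 T.2 (φ i b)) ∧
      (∀ i t x, ψ i (p.appLE T.1.1 (PT T) inf_le_right t * x) = t * ψ i x) ∧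
      (∀ x, ∑ i, p.appLE T.1.1 (PT T) inf_le_right (ψ i x) * pr.appLE (g ⁻¹ᵁ U) (PT T) inf_le_left (e i) = x) := by
    intro T
    have hpo := (isIso_pushoutSection_iff H T.2 (le_refl (g ⁻¹ᵁ U)) (UY := PT T) rfl).1
      (isIso_pushoutSection_of_isAffineOpen H T.2 le_rfl rfl hU T.1.2 hV)
    letI : Algebra A Γ(X, T.1.1) := (f.appLE U T.1.1 T.2).hom.toAlgebra
    letI : Algebra B Γ(P, PT T) := (pr.appLE (g ⁻¹ᵁ U) (PT T) inf_le_left).hom.toAlgebra
    letI : Algebra Γ(X, T.1.1) Γ(P, PT T) := (p.appLE T.1.1 (PT T) inf_le_right).hom.toAlgebra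
    letI : Algebra A Γ(P, PT T) := (φA ≫ pr.appLE (g ⁻¹ᵁ U) (PT T) inf_le_left).hom.toAlgebra
    haveI : IsScalarTower A B Γ(P, PT T) := IsScalarTower.of_algebraMap_eq' rfl
    haveI : IsScalarTower A Γ(X, T.1.1) Γ(P, PT T) :=
      IsScalarTower.of_algebraMap_eq' (congrArg CommRingCat.Hom.hom hpo.w)
    haveI hP : Algebra.IsPushout A Γ(X, T.1.1) B Γ(P, PT T) :=
      CommRingCat.isPushout_iff_isPushout.1 hpo.flip
    let ψ : Fin n → Γ(P, PT T) →ₗ[Γ(X, T.1.1)] Γ(X, T.1.1) := fun i =>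
      hP.out.lift ((Algebra.linearMap A Γ(X, T.1.1)).comp (φ i))
    have hψ : ∀ i b, ψ i (algebraMap B Γ(P, PT T) b) = algebraMap A Γ(X, T.1.1) (φ i b) := fun i b =>
      IsBaseChange.lift_eq _ _ b
    refine ⟨fun i => (ψ i).toAddMonoidHom, hψ, fun i t x => ?_, fun x => ?_⟩
    · exact ((ψ i).map_smul t x)
    · induction x using hP.out.inductionOn with
      | zero => simp
      | tmul b =>
        show ∑ i, algebraMap Γ(X, T.1.1) Γ(P, PT T) (ψ i (algebraMap B Γ(P, PT T) b)) * algebraMap B _ (e i) = algebraMap B _ b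
        simp only [hψ, ← IsScalarTower.algebraMap_apply A Γ(X, T.1.1) Γ(P, PT T)]
        conv_rhs => rw [← hexp b, map_sum]
        refine Finset.sum_congr rfl fun i _ => ?_
        rw [Algebra.smul_def, map_mul, ← IsScalarTower.algebraMap_apply A B Γ(P, PT T)]
      | smul t x hx =>
        show ∑ i, algebraMap Γ(X, T.1.1) Γ(P, PT T) (ψ i (t • x)) * algebraMap B _ (e i) = t • x
        conv_rhs => rw [← hx, Finset.smul_sum]
        refine Finset.sum_congr rfl fun i _ => ?_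
        rw [map_smul, smul_eq_mul, map_mul, Algebra.smul_def, mul_assoc]
        rfl
      | add x y hx hy =>
        conv_rhs => rw [← hx, ← hy, ← Finset.sum_add_distrib]
        exact Finset.sum_congr rfl fun i _ => by rw [map_add, map_add, add_mul]
  choose ψ hψb hψs hψx using hcoord
  have hnat : ∀ (T T' : ι) (h : T'.1.1 ≤ T.1.1) (i : Fin n) (x : Γ(P, PT T)),
      X.presheaf.map (homOfLE h).op (ψ T i x) = ψ T' i (P.presheaf.map (homOfLE (res h)).op x) := fun T T' h i x => by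
    conv_lhs => rw [← hψx T x, map_sum, map_sum]
    conv_rhs => rw [← hψx T x, map_sum, map_sum]
    refine Finset.sum_congr rfl fun j _ => ?_
    rw [hψs, hψb, map_mul, map_mul, ← CommRingCat.comp_apply (f.appLE U T.1.1 T.2), Scheme.Hom.appLE_map,
      ← CommRingCat.comp_apply (p.appLE T.1.1 (PT T) inf_le_right), Scheme.Hom.appLE_map,
      ← CommRingCat.comp_apply (pr.appLE (g ⁻¹ᵁ U) (PT T) inf_le_left), Scheme.Hom.appLE_map,
      ← p.map_appLE (inf_le_right : PT T' ≤ p ⁻¹ᵁ T'.1.1) (homOfLE h).op, CommRingCat.comp_apply, hψs, hψb]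
  have hcov : f ⁻¹ᵁ U ≤ ⨆ T : ι, T.1.1 := fun x hx => by
    obtain ⟨W, hW, hxW, hWU⟩ := exists_isAffineOpen_mem_and_subset hx
    exact TopologicalSpace.Opens.mem_iSup.2 ⟨⟨⟨W, hW⟩, hWU⟩, hxW⟩
  have hPV : pr ⁻¹ᵁ (g ⁻¹ᵁ U) = p ⁻¹ᵁ (f ⁻¹ᵁ U) := by
    rw [← Scheme.Hom.comp_preimage, ← Scheme.Hom.comp_preimage, H.w]
  have hcovP : pr ⁻¹ᵁ (g ⁻¹ᵁ U) ≤ ⨆ T : ι, PT T := fun z hz => by
    obtain ⟨T, hT⟩ := TopologicalSpace.Opens.mem_iSup.1 (hcov (hPV.le hz : p z ∈ f ⁻¹ᵁ U))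
    exact TopologicalSpace.Opens.mem_iSup.2 ⟨T, hz, hT⟩
  have happ : ∀ (T : ι) (b : B), P.presheaf.map (homOfLE (inf_le_left : PT T ≤ pr ⁻¹ᵁ (g ⁻¹ᵁ U))).op
      (pr.app (g ⁻¹ᵁ U) b) = pr.appLE (g ⁻¹ᵁ U) (PT T) inf_le_left b := fun T b => rfl
  have hfU : ∀ (T : ι) (a : A), X.presheaf.map (homOfLE T.2).op (f.app U a) = f.appLE U T.1.1 T.2 a :=
    fun T a => rfl
  refine ⟨fun b b' hbb' => ?_, fun x => ?_⟩
  · rw [← hexp b, ← hexp b']
    refine Finset.sum_congr rfl fun i _ => congrArg (· • e i) (hf.1 ?_)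
    refine TopCat.Sheaf.eq_of_locally_eq' X.sheaf (fun T : ι => T.1.1) (f ⁻¹ᵁ U) (fun T => homOfLE T.2) hcov _ _
      fun T => ?_
    refine (hfU T _).trans (Eq.trans ?_ (hfU T _).symm)
    rw [← hψb, ← hψb, ← happ, ← happ]
    exact congrArg (fun y => ψ T i (P.presheaf.map (homOfLE (inf_le_left : PT T ≤ pr ⁻¹ᵁ (g ⁻¹ᵁ U))).op y)) hbb'
  · let xT : ∀ T : ι, Γ(P, PT T) := fun T => P.presheaf.map (homOfLE inf_le_left).op x
    have hglue : ∀ i, ∃ a : A, ∀ T : ι, f.appLE U T.1.1 T.2 a = ψ T i (xT T) := fun i => by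
      obtain ⟨t, ht, -⟩ := TopCat.Sheaf.existsUnique_gluing' X.sheaf (fun T : ι => T.1.1) (f ⁻¹ᵁ U)
        (fun T => homOfLE T.2) hcov (fun T => ψ T i (xT T)) (fun T T' => by
          refine TopCat.Sheaf.eq_of_locally_eq' X.sheaf (fun W : {W : ι // W.1.1 ≤ T.1.1 ⊓ T'.1.1} => W.1.1.1) _
            (fun W => homOfLE W.2) (fun z hz => ?_) _ _ fun W => ?_
          · obtain ⟨W, hW, hzW, hWT⟩ := exists_isAffineOpen_mem_and_subset hz
            exact TopologicalSpace.Opens.mem_iSup.2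
              ⟨⟨⟨⟨W, hW⟩, fun y hy => T.2 (hWT hy).1⟩, hWT⟩, hzW⟩
          · rw [← ConcreteCategory.comp_apply, ← ConcreteCategory.comp_apply]
            show (X.presheaf.map _ ≫ X.presheaf.map _) _ = (X.presheaf.map _ ≫ X.presheaf.map _) _
            rw [← X.presheaf.map_comp, ← X.presheaf.map_comp]
            refine (hnat T W.1 (W.2.trans inf_le_left) i _).trans (Eq.trans ?_ (hnat T' W.1 (W.2.trans inf_le_right) i _).symm)
            refine congrArg (ψ W.1 i) ?_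
            simp only [xT, ← ConcreteCategory.comp_apply, ← Functor.map_comp]
            rfl)
      obtain ⟨a, rfl⟩ := hf.2 t
      exact ⟨a, fun T => ht T⟩
    choose a ha using hglue
    refine ⟨∑ i, a i • e i, ?_⟩
    refine TopCat.Sheaf.eq_of_locally_eq' P.sheaf PT (pr ⁻¹ᵁ (g ⁻¹ᵁ U)) (fun T => homOfLE inf_le_left) hcovP _ _
      fun T => ?_
    refine (happ T _).trans ?_
    show _ = xT T
    rw [← hψx T (xT T), map_sum]
    refine Finset.sum_congr rfl fun i _ => ?_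
    rw [← ha i T, Algebra.smul_def, map_mul]
    congr 1
    show (φA ≫ pr.appLE (g ⁻¹ᵁ U) (PT T) inf_le_left) (a i) = (f.appLE U T.1.1 T.2 ≫ p.appLE T.1.1 (PT T) inf_le_right) (a i)
    simp only [φA, Scheme.Hom.appLE_comp_appLE, H.w]

theorem existsUnique_clopen_preimage {P Y : Scheme.{u}} (pr : P ⟶ Y) (V : Y.Opens)
    (hb : Function.Bijective (pr.app V)) (C' : Clopens ↥(pr ⁻¹ᵁ V)) :
    ∃! C : Clopens ↥V, (pr ∣_ V).base ⁻¹' (C : Set ↥V) = SetLike.coe C' := by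
  refine existsUnique_clopen_of_appTop (pr ∣_ V) ?_ C'
  rw [morphismRestrict_appTop]
  have key : ∀ W W' : Y.Opens, W = W' → Function.Bijective (pr.app W') → Function.Bijective (pr.app W) := by
    rintro W W' rfl; exact id
  show Function.Bijective (fun z => P.presheaf.map _ (pr.app (V.ι ''ᵁ ⊤) z))
  exact (ConcreteCategory.bijective_of_isIso (P.presheaf.map _)).comp (key _ _ V.ι_image_top hb)

theorem clopenBij_of_app_bijective {X S : Scheme.{u}} (f : X ⟶ S)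
    (hf : ∀ U : S.Opens, Function.Bijective (f.app U)) : ClopenBij f := by
  intro Y C'
  let g : Y.left ⟶ S := Y.hom
  haveI : IsFinite g := Y.prop.1
  haveI : Etale g := Y.prop.2
  let pr : pullback g f ⟶ Y.left := pullback.fst g f
  let V : S.affineOpens → Y.left.Opens := fun U => g ⁻¹ᵁ U.1
  have hb : ∀ U : S.affineOpens, Function.Bijective (pr.app (V U)) := fun U =>
    app_bijective (IsPullback.of_hasPullback g f) U.2 (hf U.1)
  let C'U : ∀ U, Clopens ↥(pr ⁻¹ᵁ V U) := fun U =>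
    ⟨Subtype.val ⁻¹' (C' : Set ↥(pullback g f)), C'.isClopen.preimage continuous_subtype_val⟩
  choose C hC hCu using fun U => existsUnique_clopen_preimage pr (V U) (hb U) (C'U U)
  have hcompat : ∀ (U W : S.affineOpens) (h : W.1 ≤ U.1) (y : ↥(V W)),
      (⟨y.1, h y.2⟩ : ↥(V U)) ∈ C U ↔ y ∈ C W := fun U W h y => by
    let j : ↥(V W) → ↥(V U) := fun y => ⟨y.1, h y.2⟩
    have hj : Continuous j := continuous_subtype_val.subtype_mk _
    have he := hCu W ⟨j ⁻¹' (C U : Set ↥(V U)), (C U).isClopen.preimage hj⟩ (by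
      ext p
      have h1 := Set.ext_iff.1 (hC U) ⟨p.1, h p.2⟩
      simp only [Set.mem_preimage, morphismRestrict_base] at h1 ⊢
      exact h1)
    exact Set.ext_iff.1 (congrArg SetLike.coe he) y
  have hcov : ∀ y : Y.left, ∃ U : S.affineOpens, y ∈ V U := fun y => by
    obtain ⟨W, hW, hyW, -⟩ := exists_isAffineOpen_mem_and_subset (X := S) (x := g.base y) (U := ⊤) trivial
    exact ⟨⟨W, hW⟩, hyW⟩
  have hind : ∀ (U U' : S.affineOpens) (y : Y.left) (hy : y ∈ V U) (hy' : y ∈ V U'),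
      (⟨y, hy⟩ : ↥(V U)) ∈ C U ↔ (⟨y, hy'⟩ : ↥(V U')) ∈ C U' := fun U U' y hy hy' => by
    obtain ⟨W, hW, hyW, hWU⟩ := exists_isAffineOpen_mem_and_subset (X := S) (x := g.base y) (U := U.1 ⊓ U'.1) ⟨hy, hy'⟩
    exact (hcompat U ⟨W, hW⟩ (fun z hz => (hWU hz).1) ⟨y, hyW⟩).trans
      (hcompat U' ⟨W, hW⟩ (fun z hz => (hWU hz).2) ⟨y, hyW⟩).symm
  let D : Set Y.left := {y | ∃ (U : S.affineOpens) (hy : y ∈ V U), (⟨y, hy⟩ : ↥(V U)) ∈ C U}
  have hDo : IsOpen D := isOpen_iff_forall_mem_open.2 fun y ⟨U, hy, hyC⟩ =>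
    ⟨Subtype.val '' (C U : Set ↥(V U)), by rintro _ ⟨z, hz, rfl⟩; exact ⟨U, z.2, hz⟩,
      (V U).2.isOpenMap_subtype_val _ (C U).isClopen.2, ⟨⟨y, hy⟩, hyC, rfl⟩⟩
  have hDc : IsClosed D := isOpen_compl_iff.1 (isOpen_iff_forall_mem_open.2 fun y hy => by
    obtain ⟨U, hU⟩ := hcov y
    refine ⟨Subtype.val '' (C U : Set ↥(V U))ᶜ, ?_, (V U).2.isOpenMap_subtype_val _ (C U).isClopen.1.isOpen_compl,
      ⟨⟨y, hU⟩, fun hc => hy ⟨U, hU, hc⟩, rfl⟩⟩
    rintro _ ⟨z, hz, rfl⟩ ⟨U', hz', hzC⟩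
    exact hz ((hind U U' z.1 z.2 hz').2 hzC))
  refine ⟨⟨D, hDc, hDo⟩, ?_, fun E hE => SetLike.coe_injective ?_⟩
  · ext p
    obtain ⟨U, hU⟩ := hcov (pr.base p)
    have h1 := Set.ext_iff.1 (hC U) (⟨p, hU⟩ : ↥(pr ⁻¹ᵁ V U))
    simp only [Set.mem_preimage, morphismRestrict_base] at h1
    exact ⟨fun ⟨U', h', hm⟩ => h1.1 ((hind U U' _ hU h').2 hm), fun hp => ⟨U, hU, h1.2 hp⟩⟩
  · ext y
    obtain ⟨U, hU⟩ := hcov y
    have he := hCu U ⟨Subtype.val ⁻¹' (E : Set Y.left), E.isClopen.preimage continuous_subtype_val⟩ (by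
      ext p
      have h1 := Set.ext_iff.1 hE p.1
      simp only [Set.mem_preimage, morphismRestrict_base] at h1 ⊢
      exact h1)
    have h2 := Set.ext_iff.1 (congrArg SetLike.coe he) ⟨y, hU⟩
    exact h2.trans ⟨fun hm => ⟨U, hU, hm⟩, fun ⟨U', h', hm⟩ => (hind U U' y hU h').2 hm⟩

end ClopenFFLib
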