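import Mathlib.Topology.Connected.Clopen
import Mathlib.Topology.Connected.TotallyDisconnected
import Mathlib.Topology.NoetherianSpace
import Mathlib.Topology.Maps.Basic
import Mathlib.Topology.Sets.Closeds

/-!
# Descent of clopen subsets along continuous maps
-/

set_option autoImplicit false
set_option linter.style.haveILetI false

open Topology TopologicalSpace

namespace ClopenFFLib

universe v w

variable {Z : Type v} {Y : Type w} [TopologicalSpace Z] [TopologicalSpace Y]

theorem existsUnique_clopen_of_quotientMap (g : Z → Y) (hq : IsQuotientMap g)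
    (hc : ∀ y, IsPreconnected (g ⁻¹' {y})) (C' : Clopens Z) :
    ∃! C : Clopens Y, g ⁻¹' (C : Set Y) = C' := by
  have hsat : g ⁻¹' (g '' (C' : Set Z)) = C' := by
    refine Set.Subset.antisymm ?_ (Set.subset_preimage_image g _)
    rintro z ⟨z', hz', he⟩
    exact (hc (g z)).subset_isClopen C'.isClopen ⟨z', he, hz'⟩ rfl
  refine ⟨⟨g '' C', hq.isClosed_preimage.1 (by rw [hsat]; exact C'.isClopen.1),
    hq.isOpen_preimage.1 (by rw [hsat]; exact C'.isClopen.2)⟩, hsat, fun D hD => SetLike.coe_injective ?_⟩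
  show (D : Set Y) = g '' C'
  rw [← hD, Set.image_preimage_eq _ hq.surjective]

theorem connectedSpace_of_quotientMap [ConnectedSpace Y] (g : Z → Y) (hq : IsQuotientMap g)
    (hc : ∀ y, IsPreconnected (g ⁻¹' {y})) : ConnectedSpace Z := by
  rw [connectedSpace_iff_clopen]
  refine ⟨hq.surjective.nonempty, fun U hU => ?_⟩
  obtain ⟨C, hC, -⟩ := existsUnique_clopen_of_quotientMap g hq hc ⟨U, hU⟩
  rcases isClopen_iff.1 C.isClopen with h | h
  · exact Or.inl (hC.symm.trans (by rw [h, Set.preimage_empty]))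
  · exact Or.inr (hC.symm.trans (by rw [h, Set.preimage_univ]))

theorem finite_connectedComponents_of_noetherian [NoetherianSpace Y] : Finite (ConnectedComponents Y) := by
  haveI : Finite (irreducibleComponents Y) := (NoetherianSpace.finite_irreducibleComponents (α := Y)).to_subtype
  refine Finite.of_surjective (α := irreducibleComponents Y)
    (fun Z => ConnectedComponents.mk Z.2.1.nonempty.some) fun c => ?_
  obtain ⟨y, rfl⟩ := ConnectedComponents.surjective_coe c
  refine ⟨⟨irreducibleComponent y, irreducibleComponent_mem_irreducibleComponents y⟩, ?_⟩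
  refine ConnectedComponents.coe_eq_coe'.2 ?_
  exact (isIrreducible_irreducibleComponent.isConnected.subset_connectedComponent mem_irreducibleComponent)
    (isIrreducible_irreducibleComponent (x := y)).nonempty.some_mem

theorem existsUnique_clopen_of_components (g : Z → Y) (hg : Continuous g) [Finite (ConnectedComponents Y)]
    (hb : Function.Bijective hg.connectedComponentsMap) (C' : Clopens Z) :
    ∃! C : Clopens Y, g ⁻¹' (C : Set Y) = C' := by
  haveI : T1Space (ConnectedComponents Y) := ⟨fun c => by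
    obtain ⟨y, rfl⟩ := ConnectedComponents.surjective_coe c
    rw [← ConnectedComponents.isQuotientMap_coe.isClosed_preimage, connectedComponents_preimage_singleton]
    exact isClosed_connectedComponent⟩
  haveI : DiscreteTopology (ConnectedComponents Y) := inferInstance
  let S : Set (ConnectedComponents Y) := hg.connectedComponentsMap '' (ConnectedComponents.mk '' (C' : Set Z))
  have hS : ConnectedComponents.mk ⁻¹' (ConnectedComponents.mk '' (C' : Set Z)) = C' := by
    rw [connectedComponents_preimage_image, C'.isClopen.biUnion_connectedComponent_eq]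
  refine ⟨⟨ConnectedComponents.mk ⁻¹' S, (Set.toFinite S).isClosed.preimage ConnectedComponents.continuous_coe,
    (isOpen_discrete S).preimage ConnectedComponents.continuous_coe⟩, ?_, fun D hD => SetLike.coe_injective ?_⟩
  · show (ConnectedComponents.mk ∘ g) ⁻¹' S = C'
    have : ConnectedComponents.mk ∘ g = hg.connectedComponentsMap ∘ ConnectedComponents.mk := rfl
    rw [this, Set.preimage_comp, Set.preimage_image_eq _ hb.1, hS]
  · show (D : Set Y) = ConnectedComponents.mk ⁻¹' S
    have hDs : ConnectedComponents.mk ⁻¹' (ConnectedComponents.mk '' (D : Set Y)) = D := by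
      rw [connectedComponents_preimage_image, D.isClopen.biUnion_connectedComponent_eq]
    refine hDs.symm.trans (congrArg _ ?_)
    refine Set.Subset.antisymm ?_ ?_
    · rintro _ ⟨y, hy, rfl⟩
      obtain ⟨c, hc⟩ := hb.2 (ConnectedComponents.mk y)
      obtain ⟨z, rfl⟩ := ConnectedComponents.surjective_coe c
      refine ⟨_, ⟨z, ?_, rfl⟩, hc⟩
      rw [← hD]
      show g z ∈ (D : Set Y)
      rw [← hDs]
      exact ⟨y, hy, hc.symm⟩
    · rintro _ ⟨_, ⟨z, hz, rfl⟩, rfl⟩
      rw [← hD] at hz
      exact ⟨g z, hz, rfl⟩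

theorem existsUnique_clopen_of_pieces {P : Type v} {Y : Type w} [TopologicalSpace P] [TopologicalSpace Y] {ι : Type*}
    (g : P → Y) (D : ι → Set Y) (hD : ∀ i, IsClopen (D i)) (hDc : ∀ i, IsPreconnected (D i))
    (hcov : ∀ y, ∃ i, y ∈ D i) (hne : ∀ i, (g ⁻¹' D i).Nonempty) (hpre : ∀ i, IsPreconnected (g ⁻¹' D i))
    (C' : Clopens P) : ∃! C : Clopens Y, g ⁻¹' (C : Set Y) = C' := by
  have heq : ∀ i j y, y ∈ D i → y ∈ D j → D i = D j := fun i j y hi hj =>
    ((hDc i).subset_isClopen (hD j) ⟨y, hi, hj⟩).antisymm ((hDc j).subset_isClopen (hD i) ⟨y, hj, hi⟩)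
  let C : Set Y := {y | ∃ i, y ∈ D i ∧ g ⁻¹' D i ⊆ C'}
  have hCo : IsOpen C := isOpen_iff_forall_mem_open.2 fun y ⟨i, hy, hi⟩ =>
    ⟨D i, fun z hz => ⟨i, hz, hi⟩, (hD i).2, hy⟩
  have hCc : IsClosed C := isOpen_compl_iff.1 (isOpen_iff_forall_mem_open.2 fun y hy => by
    obtain ⟨i, hi⟩ := hcov y
    refine ⟨D i, fun z hz ⟨j, hzj, hj⟩ => hy ⟨i, hi, ?_⟩, (hD i).2, hi⟩
    rw [heq i j z hz hzj]
    exact hj)
  refine ⟨⟨C, hCc, hCo⟩, ?_, fun E hE => SetLike.coe_injective ?_⟩
  · ext p
    obtain ⟨i, hi⟩ := hcov (g p)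
    refine ⟨fun ⟨j, hj, hjs⟩ => hjs hj, fun hp => ⟨i, hi, (hpre i).subset_isClopen C'.isClopen ⟨p, hi, hp⟩⟩⟩
  · show (E : Set Y) = C
    ext y
    constructor
    · intro hy
      obtain ⟨i, hi⟩ := hcov y
      refine ⟨i, hi, fun p hp => ?_⟩
      rw [← hE]
      exact (hDc i).subset_isClopen E.isClopen ⟨y, hi, hy⟩ hp
    · rintro ⟨i, hi, hs⟩
      obtain ⟨p, hp⟩ := hne i
      have : g p ∈ (E : Set Y) := by
        have := hs hp
        rwa [← hE] at this
      exact (hDc i).subset_isClopen E.isClopen ⟨g p, hp, this⟩ hi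

end ClopenFFLib
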