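import Groth.Agent.ClopenFFLib.Basic
import Groth.Agent.ClopenFFLib.Topo
import Groth.Agent.HenselLib.Normal
import Groth.Agent.SweepSix.NormSect
import Groth.Prelude.Def_Pi1

/-!
# Finite étale covers of normal integral schemes
-/

set_option autoImplicit false
set_option linter.style.haveILetI false

universe u

open CategoryTheory CategoryTheory.Limits AlgebraicGeometry TopologicalSpace

noncomputable section

namespace ClopenFFLib

section

variable {X Y : Scheme.{u}} [IsIntegral X] (g : Y ⟶ X) [IsFinite g] [Etale g]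

include g

omit [IsFinite g] in
theorem normal_of_etale (hX : Pi1.IsNormalScheme X) : Pi1.IsNormalScheme Y := fun y => by
  obtain ⟨U, hU, hxU, -⟩ := exists_isAffineOpen_mem_and_subset (X := X) (x := g.base y) (U := ⊤) trivial
  obtain ⟨V, hV, hxV, e⟩ := exists_isAffineOpen_mem_and_subset (x := y) (U := g ⁻¹ᵁ U) hxU
  haveI : Nonempty U := ⟨⟨_, hxU⟩⟩
  haveI := SweepSix.NormSect.isIntegrallyClosed_of_stalk hU hX
  algebraize [(g.appLE U V e).hom]
  haveI : Algebra.Etale Γ(X, U) Γ(Y, V) :=
    RingHom.etale_algebraMap.1 (HasRingHomProperty.appLE @Etale g ‹_› ⟨U, hU⟩ ⟨V, hV⟩ e)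
  letI := Y.presheaf.algebra_section_stalk ⟨_, hxV⟩
  haveI := hV.isLocalization_stalk ⟨_, hxV⟩
  let q := (hV.primeIdealOf ⟨_, hxV⟩).asIdeal
  obtain ⟨_, _⟩ := HenselLib.normal_localization_etale Γ(X, U) Γ(Y, V) q
  let e' := (IsLocalization.algEquiv q.primeCompl (Localization.AtPrime q) (Y.presheaf.stalk y)).toRingEquiv
  exact ⟨e'.symm.toMulEquiv.isDomain _, IsIntegrallyClosed.of_equiv e'⟩

omit [IsFinite g] in
theorem generic_map_eq {W : Set Y} (hW : W ∈ irreducibleComponents Y) {ξ : Y} (hξ : closure {ξ} = W) :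
    g.base ξ = genericPoint X := by
  obtain ⟨a, ha, hga⟩ := Flat.generalizingMap g ((genericPoint_spec X).specializes trivial : genericPoint X ⤳ g.base ξ)
  have h1 : closure {a} = W := by
    refine ((hW.eq_of_le isIrreducible_singleton.closure ?_)).symm
    rw [← hξ]
    exact closure_minimal (Set.singleton_subset_iff.2 ha.mem_closure) isClosed_closure
  rw [← hga]
  exact congrArg g.base (((isGenericPoint_def.2 h1)).eq (isGenericPoint_def.2 hξ)).symm

theorem exists_generic {W : Set Y} (hW : W ∈ irreducibleComponents Y) :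
    ∃ ξ, closure {ξ} = W ∧ g.base ξ = genericPoint X := by
  obtain ⟨ξ, hξ⟩ := QuasiSober.sober hW.1 (isClosed_of_mem_irreducibleComponents W hW)
  exact ⟨ξ, hξ, generic_map_eq g hW hξ⟩

omit g [IsIntegral X] [IsFinite g] [Etale g] in
theorem component_unique [∀ y : Y, IsDomain (Y.presheaf.stalk y)] {Z Z' : Set Y} (hZ : Z ∈ irreducibleComponents Y)
    (hZ' : Z' ∈ irreducibleComponents Y) {y : Y} (hy : y ∈ Z) (hy' : y ∈ Z') : Z = Z' := by
  have key : ∀ W ∈ irreducibleComponents Y, y ∈ W →
      W = closure {Y.fromSpecStalk y (⟨⊥, Ideal.isPrime_bot⟩ : PrimeSpectrum (Y.presheaf.stalk y))} := by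
    intro W hW hyW
    obtain ⟨ξ, hξ⟩ := QuasiSober.sober hW.1 (isClosed_of_mem_irreducibleComponents W hW)
    have hsp : ξ ∈ Set.range (Y.fromSpecStalk y) := by
      rw [Scheme.range_fromSpecStalk]
      exact hξ.specializes hyW
    obtain ⟨a, ha⟩ := hsp
    refine hW.eq_of_le isIrreducible_singleton.closure ?_
    rw [← hξ, ← ha]
    exact closure_minimal (Set.singleton_subset_iff.mpr
      ((((PrimeSpectrum.le_iff_specializes (⟨⊥, Ideal.isPrime_bot⟩ : PrimeSpectrum (Y.presheaf.stalk y)) a).mp bot_le)).map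
        (Y.fromSpecStalk y).continuous).mem_closure) isClosed_closure
  exact (key Z hZ hy).trans (key Z' hZ' hy').symm

theorem finite_irreducibleComponents : (irreducibleComponents Y).Finite := by
  refine ((g.finite_preimage_singleton (genericPoint X)).image fun ξ => closure {ξ}).subset fun W hW => ?_
  obtain ⟨ξ, hξ, hg⟩ := exists_generic g hW
  exact ⟨ξ, hg, hξ⟩

theorem isClopen_component (hX : Pi1.IsNormalScheme X) {Z : Set Y} (hZ : Z ∈ irreducibleComponents Y) :
    IsClopen Z := by
  haveI : ∀ y : Y, IsDomain (Y.presheaf.stalk y) := fun y => (normal_of_etale g hX y).1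
  have hc : Z = (⋃ W ∈ irreducibleComponents Y \ {Z}, W)ᶜ := by
    ext y
    simp only [Set.mem_compl_iff, Set.mem_iUnion, not_exists, Set.mem_sdiff, Set.mem_singleton_iff]
    refine ⟨fun hy W hW hyW => hW.2 (component_unique hW.1 hZ hyW hy), fun h => ?_⟩
    by_contra hy
    exact h (irreducibleComponent y) ⟨irreducibleComponent_mem_irreducibleComponents y,
      fun he => hy (he ▸ mem_irreducibleComponent)⟩ mem_irreducibleComponent
  refine ⟨isClosed_of_mem_irreducibleComponents Z hZ, ?_⟩
  rw [hc]
  exact (((finite_irreducibleComponents g).subset Set.sdiff_subset).isClosed_biUnion fun W hW =>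
    isClosed_of_mem_irreducibleComponents W hW.1).isOpen_compl

theorem isIntegral_of_connected (hX : Pi1.IsNormalScheme X) [ConnectedSpace Y] : IsIntegral Y := by
  haveI : ∀ y : Y, _root_.IsReduced (Y.presheaf.stalk y) := fun y =>
    haveI := (normal_of_etale g hX y).1
    isReduced_of_noZeroDivisors
  haveI : IsReduced Y := isReduced_of_isReduced_stalk Y
  obtain ⟨x⟩ : Nonempty Y := inferInstance
  have huniv : irreducibleComponent x = Set.univ :=
    (isClopen_component g hX (irreducibleComponent_mem_irreducibleComponents x)).eq_univ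
      ⟨x, mem_irreducibleComponent⟩
  haveI : IrreducibleSpace Y := by
    haveI : PreirreducibleSpace Y := ⟨huniv ▸ (isIrreducible_irreducibleComponent (x := x)).2⟩
    exact ⟨inferInstance⟩
  exact isIntegral_of_irreducibleSpace_of_isReduced Y

end

variable {X : Scheme.{u}} [IsIntegral X]

/-- Clopen subsets of finite étale covers descend along maps which see all irreducible components. -/
theorem clopenBij_of_components (hX : Pi1.IsNormalScheme X) {X' : Scheme.{u}} (f : X' ⟶ X)
    (h : ∀ (A : FEt.Cat X) (W : Set ↥A.left), W ∈ irreducibleComponents ↥A.left →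
      ((pullback.fst A.hom f).base ⁻¹' W).Nonempty ∧ _root_.IsPreconnected ((pullback.fst A.hom f).base ⁻¹' W)) :
    ClopenBij f := fun A C' => by
  haveI : IsFinite (show A.left ⟶ X from A.hom) := A.prop.1
  haveI : Etale (show A.left ⟶ X from A.hom) := A.prop.2
  exact existsUnique_clopen_of_pieces (pullback.fst A.hom f).base
    (fun W : irreducibleComponents ↥A.left => (W : Set ↥A.left))
    (fun W => isClopen_component (show A.left ⟶ X from A.hom) hX W.2)
    (fun W => W.2.1.isPreirreducible.isPreconnected)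
    (fun y => ⟨⟨_, irreducibleComponent_mem_irreducibleComponents y⟩, mem_irreducibleComponent⟩)
    (fun W => (h A W W.2).1) (fun W => (h A W W.2).2) C'

theorem clopenBij_open (hX : Pi1.IsNormalScheme X) (U : X.Opens) (hU : (U : Set X).Nonempty) :
    ClopenBij U.ι := by
  refine clopenBij_of_components hX U.ι fun A W hW => ?_
  haveI : IsFinite (show A.left ⟶ X from A.hom) := A.prop.1
  haveI : Etale (show A.left ⟶ X from A.hom) := A.prop.2
  haveI : IsOpenImmersion (pullback.fst A.hom U.ι) := MorphismProperty.pullback_fst _ _ inferInstance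
  obtain ⟨ξ, hξ, hg⟩ := exists_generic (show A.left ⟶ X from A.hom) hW
  refine ⟨?_, (hW.1.isPreirreducible.preimage (pullback.fst A.hom U.ι).isOpenEmbedding).isPreconnected⟩
  have hmem : ξ ∈ Set.range (pullback.fst A.hom U.ι).base := by
    rw [Scheme.Pullback.range_fst, Scheme.Opens.range_ι]
    show A.hom.base ξ ∈ (U : Set X)
    rw [show A.hom.base ξ = genericPoint X from hg]
    obtain ⟨x, hx⟩ := hU
    exact ((genericPoint_spec X).specializes trivial).mem_open U.2 hx
  obtain ⟨p, hp⟩ := hmem
  exact ⟨p, by rw [Set.mem_preimage, hp, ← hξ]; exact subset_closure rfl⟩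

theorem clopenBij_generic (hX : Pi1.IsNormalScheme X) : ClopenBij (X.fromSpecStalk (genericPoint X)) := by
  refine clopenBij_of_components hX _ fun A W hW => ?_
  haveI : IsFinite (show A.left ⟶ X from A.hom) := A.prop.1
  haveI : Etale (show A.left ⟶ X from A.hom) := A.prop.2
  haveI : IsPreimmersion (pullback.fst A.hom (X.fromSpecStalk (genericPoint X))) :=
    MorphismProperty.pullback_fst (P := @IsPreimmersion) _ _
      (show IsPreimmersion (X.fromSpecStalk (genericPoint X)) from inferInstance)
  obtain ⟨ξ, hξ, hg⟩ := exists_generic (show A.left ⟶ X from A.hom) hW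
  have hr : Set.range (X.fromSpecStalk (genericPoint X)) = {genericPoint X} := by
    rw [Scheme.range_fromSpecStalk]
    ext z
    exact ⟨fun hz => hz.antisymm ((genericPoint_spec X).specializes trivial) |>.eq, fun hz => hz ▸ specializes_rfl⟩
  have hfib : ∀ y : A.left, y ∈ W → A.hom.base y = genericPoint X → y = ξ := fun y hy hgy => by
    have hsp : ξ ⤳ y := specializes_iff_mem_closure.2 (hξ ▸ hy)
    haveI := ((show A.left ⟶ X from A.hom).isDiscrete_preimage_singleton (genericPoint X)).to_subtype
    have h1 : (⟨ξ, hg⟩ : (show A.left ⟶ X from A.hom).base ⁻¹' {genericPoint X}) ⤳ ⟨y, hgy⟩ :=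
      (subtype_specializes_iff _ _).2 hsp
    exact (congrArg Subtype.val h1.eq).symm
  have hrange : Set.range (pullback.fst A.hom (X.fromSpecStalk (genericPoint X))).base =
      A.hom.base ⁻¹' {genericPoint X} := (Scheme.Pullback.range_fst _ _).trans (congrArg (A.hom.base ⁻¹' ·) hr)
  obtain ⟨p, hp⟩ := hrange.ge hg
  refine ⟨⟨p, by rw [Set.mem_preimage, hp, ← hξ]; exact subset_closure rfl⟩, Set.Subsingleton.isPreconnected ?_⟩
  intro a ha b hb
  have hab : ∀ c, (pullback.fst A.hom (X.fromSpecStalk (genericPoint X))).base c ∈ W →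
      (pullback.fst A.hom (X.fromSpecStalk (genericPoint X))).base c = ξ := fun c hc =>
    hfib _ hc (hrange.le ⟨c, rfl⟩)
  exact (pullback.fst A.hom (X.fromSpecStalk (genericPoint X))).isEmbedding.injective
    ((hab a ha).trans (hab b hb).symm)

end ClopenFFLib
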