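import Groth.Agent.FFDescLib.EtaleGraph
import Groth.Prelude.Def_FEt
import Mathlib.AlgebraicGeometry.Morphisms.FlatRank
import Mathlib.Topology.Sets.Closeds

/-!
# Full faithfulness of the restriction of finite étale covers from bijectivity on clopen subsets
-/

set_option autoImplicit false
set_option linter.style.haveILetI false

universe u

open CategoryTheory CategoryTheory.Limits AlgebraicGeometry TopologicalSpace

noncomputable section

namespace ClopenFFLib

variable {X' X : Scheme.{u}} (f : X' ⟶ X)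

/-- `f` induces bijections on clopen subsets of all finite étale covers. -/
def ClopenBij : Prop :=
  ∀ Y : FEt.Cat X, ∀ C' : Clopens ↥(pullback Y.hom f), ∃! C : Clopens ↥Y.left,
    (pullback.fst Y.hom f).base ⁻¹' (C : Set ↥Y.left) = C'

theorem eq_univ_of_preimage (h : ClopenBij f) {Y : FEt.Cat X} {D : Set ↥Y.left} (hD : IsClopen D)
    (hpre : (pullback.fst Y.hom f).base ⁻¹' D = Set.univ) : D = Set.univ := by
  obtain ⟨C, -, huniq⟩ := h Y ⟨Set.univ, isClopen_univ⟩
  have h1 := huniq ⟨D, hD⟩ hpre
  have h2 := huniq ⟨Set.univ, isClopen_univ⟩ Set.preimage_univ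
  exact congrArg SetLike.coe (h1.trans h2.symm)

theorem faithful (h : ClopenBij f) : (FEt.restrict f).Faithful := by
  refine ⟨fun {A B} a b hab => MorphismProperty.Over.Hom.ext ?_⟩
  haveI : IsFinite B.hom := B.prop.1
  haveI : Etale B.hom := B.prop.2
  have hw : a.left ≫ B.hom = b.left ≫ B.hom :=
    (MorphismProperty.Over.w a).trans (MorphismProperty.Over.w b).symm
  let j : A.left ⟶ pullback B.hom B.hom := pullback.lift a.left b.left hw
  let e := pullback.fst j (pullback.diagonal B.hom)
  haveI : IsOpenImmersion e := MorphismProperty.pullback_fst _ _ inferInstance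
  haveI : IsClosedImmersion e := MorphismProperty.pullback_fst _ _ inferInstance
  have hab' : pullback.fst A.hom f ≫ a.left = pullback.fst A.hom f ≫ b.left := by
    have h1 := congrArg (fun z => z.left ≫ pullback.fst B.hom f) hab
    simp only [FEt.restrict] at h1
    exact (pullback.lift_fst _ _ _).symm.trans (h1.trans (pullback.lift_fst _ _ _))
  have hpre : (pullback.fst A.hom f).base ⁻¹' Set.range e.base = Set.univ := by
    refine Set.eq_univ_of_forall fun p => ?_
    let l := pullback.lift (f := j) (g := pullback.diagonal B.hom) (pullback.fst A.hom f)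
      (pullback.fst A.hom f ≫ a.left) (by
        apply pullback.hom_ext
        · rw [Category.assoc, Category.assoc, pullback.diagonal_fst, Category.comp_id]
          exact congrArg (pullback.fst A.hom f ≫ ·) (pullback.lift_fst _ _ _)
        · rw [Category.assoc, Category.assoc, pullback.diagonal_snd, Category.comp_id]
          exact (congrArg (pullback.fst A.hom f ≫ ·) (pullback.lift_snd _ _ _)).trans hab'.symm)
    exact ⟨l p, by rw [← Scheme.Hom.comp_apply, pullback.lift_fst]⟩
  have huniv := eq_univ_of_preimage f h (Y := A)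
    ⟨e.isClosedEmbedding.isClosed_range, e.isOpenEmbedding.isOpen_range⟩ hpre
  haveI : Surjective e := ⟨Set.range_eq_univ.1 huniv⟩
  haveI : IsIso e := (isIso_iff_isOpenImmersion_and_surjective e).2 ⟨inferInstance, inferInstance⟩
  rw [← cancel_epi e]
  have hc : e ≫ j = pullback.snd j (pullback.diagonal B.hom) ≫ pullback.diagonal B.hom := pullback.condition
  have h1 := congrArg (· ≫ pullback.fst B.hom B.hom) hc
  have h2 := congrArg (· ≫ pullback.snd B.hom B.hom) hc
  simp only [j, Category.assoc, pullback.lift_fst, pullback.lift_snd, pullback.diagonal_fst,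
    pullback.diagonal_snd, Category.comp_id] at h1 h2
  exact h1.trans h2.symm

theorem full (h : ClopenBij f) : (FEt.restrict f).Full := by
  refine ⟨fun {A B} ψ => ?_⟩
  haveI : IsFinite A.hom := A.prop.1
  haveI : Etale A.hom := A.prop.2
  haveI : IsFinite B.hom := B.prop.1
  haveI : Etale B.hom := B.prop.2
  let W := pullback A.hom B.hom
  let π : W ⟶ A.left := pullback.fst A.hom B.hom
  haveI : IsFinite π := MorphismProperty.pullback_fst _ _ ‹IsFinite B.hom›
  haveI : Etale π := MorphismProperty.pullback_fst _ _ ‹Etale B.hom›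
  let Wc : FEt.Cat X := MorphismProperty.Over.mk ⊤ (π ≫ A.hom) ⟨inferInstance, inferInstance⟩
  let a := pullback.fst A.hom f
  let r := pullback.fst (π ≫ A.hom) f
  let q : pullback (π ≫ A.hom) f ⟶ pullback A.hom f :=
    pullback.map (π ≫ A.hom) f A.hom f π (𝟙 _) (𝟙 _) (by simp) (by simp)
  have sq : IsPullback r q π a := by
    refine IsPullback.of_bot ?_ (pullback.lift_fst _ _ _).symm (IsPullback.of_hasPullback A.hom f)
    rw [pullback.lift_snd, Category.comp_id]
    exact IsPullback.of_hasPullback (π ≫ A.hom) f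
  haveI : IsFinite q := MorphismProperty.of_isPullback sq ‹IsFinite π›
  haveI : Etale q := MorphismProperty.of_isPullback sq ‹Etale π›
  have hw : ψ.left ≫ pullback.snd B.hom f = pullback.snd A.hom f := MorphismProperty.Over.w ψ
  have hwf : a ≫ A.hom = (ψ.left ≫ pullback.fst B.hom f) ≫ B.hom :=
    ((Category.assoc _ _ _).trans ((congrArg (ψ.left ≫ ·) (pullback.condition (f := B.hom) (g := f))).trans
      ((Category.assoc _ _ _).symm.trans ((congrArg (· ≫ f) hw).trans (pullback.condition (f := A.hom) (g := f)).symm)))).symm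
  let s : pullback A.hom f ⟶ W := pullback.lift a (ψ.left ≫ pullback.fst B.hom f) hwf
  let σ : pullback A.hom f ⟶ pullback (π ≫ A.hom) f := sq.lift s (𝟙 _) ((pullback.lift_fst _ _ _).trans (Category.id_comp _).symm)
  have hσ : σ ≫ q = 𝟙 _ := sq.lift_snd _ _ _
  have hσr : σ ≫ r = s := sq.lift_fst _ _ _
  haveI : IsOpenImmersion σ := FFDescLib.isOpenImmersion_of_section q σ hσ
  haveI : IsClosedImmersion σ := by
    haveI : IsClosedImmersion (σ ≫ q) := by rw [hσ]; infer_instance
    exact IsClosedImmersion.of_comp σ q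
  obtain ⟨C, hC, -⟩ := h Wc ⟨Set.range σ.base, σ.isClosedEmbedding.isClosed_range, σ.isOpenEmbedding.isOpen_range⟩
  change r.base ⁻¹' ((C : Set ↥Wc.left)) = Set.range σ.base at hC
  let G : W.Opens := ⟨(C : Set ↥Wc.left), C.isClopen.2⟩
  haveI : IsClosedImmersion G.ι :=
    IsClosedImmersion.of_isPreimmersion _ (by rw [Scheme.Opens.range_ι]; exact (C.isClopen.1 :))
  let ρ : (G : Scheme.{u}) ⟶ A.left := G.ι ≫ π
  let σ' : pullback A.hom f ⟶ (r ⁻¹ᵁ G : Scheme.{u}) :=
    IsOpenImmersion.lift (r ⁻¹ᵁ G).ι σ (by rw [Scheme.Opens.range_ι]; exact hC.ge)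
  have hσ' : σ' ≫ (r ⁻¹ᵁ G).ι = σ := IsOpenImmersion.lift_fac _ _ _
  haveI : IsOpenImmersion σ' := by
    haveI : IsOpenImmersion (σ' ≫ (r ⁻¹ᵁ G).ι) := by rw [hσ']; infer_instance
    exact IsOpenImmersion.of_comp σ' (r ⁻¹ᵁ G).ι
  haveI : Surjective σ' := ⟨fun z => by
    obtain ⟨p, hp⟩ := hC.le z.2
    exact ⟨p, (r ⁻¹ᵁ G).ι.isEmbedding.injective (by rw [← Scheme.Hom.comp_apply, hσ']; exact hp)⟩⟩
  haveI : IsIso σ' := (isIso_iff_isOpenImmersion_and_surjective σ').2 ⟨inferInstance, inferInstance⟩
  have sqG : IsPullback (r ∣_ G) ((r ⁻¹ᵁ G).ι ≫ q) ρ a :=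
    (isPullback_morphismRestrict r G).paste_vert sq
  haveI : IsIso ((r ⁻¹ᵁ G).ι ≫ q) := by
    haveI : IsIso (σ' ≫ (r ⁻¹ᵁ G).ι ≫ q) := by rw [reassoc_of% hσ', hσ]; infer_instance
    exact IsIso.of_isIso_comp_left σ' _
  have hρ : IsIso ρ := by
    rw [Scheme.Hom.isIso_iff_finrank_eq]
    have hD : IsClopen {x : A.left | ρ.finrank x = 1} :=
      (Scheme.Hom.isLocallyConstant_finrank ρ).isClopen_fiber 1
    have hpre : a.base ⁻¹' {x : A.left | ρ.finrank x = 1} = Set.univ := by
      refine Set.eq_univ_of_forall fun p => ?_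
      show ρ.finrank (a p) = 1
      rw [← Scheme.Hom.finrank_of_isPullback _ _ _ _ sqG p, Scheme.Hom.finrank_eq_one_of_isIso]
      rfl
    funext x
    exact (eq_univ_of_preimage f h (Y := A) hD hpre).ge (Set.mem_univ x)
  let k : A.left ⟶ B.left := inv ρ ≫ G.ι ≫ pullback.snd A.hom B.hom
  have hk : k ≫ B.hom = A.hom := by
    simp only [k, Category.assoc, ← pullback.condition]
    rw [show G.ι ≫ pullback.fst A.hom B.hom ≫ A.hom = ρ ≫ A.hom from (Category.assoc _ _ _).symm,
      IsIso.inv_hom_id_assoc]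
  refine ⟨MorphismProperty.Over.homMk k hk, MorphismProperty.Over.Hom.ext (pullback.hom_ext ?_ ?_)⟩
  · refine (pullback.lift_fst _ _ _).trans ?_
    show a ≫ k = _
    have ha : a ≫ inv ρ = σ' ≫ (r ∣_ G) := by
      rw [IsIso.comp_inv_eq, Category.assoc, sqG.w, ← Category.assoc, ← Category.assoc, hσ', hσ, Category.id_comp]
    simp only [k]
    rw [← Category.assoc, ha, Category.assoc, morphismRestrict_ι_assoc, reassoc_of% hσ', reassoc_of% hσr,
      pullback.lift_snd]
    rfl
  · exact (pullback.lift_snd _ _ _).trans hw.symm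

theorem full_faithful (h : ClopenBij f) : (FEt.restrict f).Full ∧ (FEt.restrict f).Faithful :=
  ⟨full f h, faithful f h⟩

end ClopenFFLib
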