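import Groth.Agent.ClopenFFLib.Basic
import Groth.Agent.PtTopLib.Basic

/-!
# Connected components along morphisms inducing equivalences of finite étale covers
-/

set_option autoImplicit false
set_option linter.style.haveILetI false

universe u

open CategoryTheory CategoryTheory.Limits AlgebraicGeometry TopologicalSpace

noncomputable section

namespace ClopenFFLib

variable {X Y : Scheme.{u}}

/-- A clopen subset as an open. -/
abbrev opOf (C : Clopens Y) : Y.Opens := ⟨(C : Set Y), C.isClopen.2⟩

instance (C : Clopens Y) : IsClosedImmersion (opOf C).ι :=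
  IsClosedImmersion.of_isPreimmersion _ (by rw [Scheme.Opens.range_ι]; exact C.isClopen.1)

/-- The finite étale cover given by a clopen subset. -/
def objC (C : Clopens Y) : FEt.Cat Y := MorphismProperty.Over.mk ⊤ (opOf C).ι ⟨inferInstance, inferInstance⟩

theorem range_snd (f : X ⟶ Y) (Z : FEt.Cat Y) :
    Set.range (pullback.snd Z.hom f).base = f.base ⁻¹' Set.range Z.hom.base :=
  Scheme.Pullback.range_snd Z.hom f

theorem range_subset_of_hom {A B : FEt.Cat Y} (e : A ⟶ B) : Set.range A.hom.base ⊆ Set.range B.hom.base := by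
  rintro _ ⟨p, rfl⟩
  refine ⟨e.left.base p, ?_⟩
  have hw : e.left ≫ B.hom = A.hom := MorphismProperty.Over.w e
  exact congrArg (fun m : A.left ⟶ (Functor.fromPUnit Y).obj A.right => m.base p) hw

theorem range_objC (C : Clopens Y) : Set.range (objC C).hom.base = (C : Set Y) := Scheme.Opens.range_ι (opOf C)

theorem eq_of_iso {C D : Clopens Y} (e : objC C ≅ objC D) : (C : Set Y) ⊆ D :=
  (range_objC C).ge.trans ((range_subset_of_hom e.hom).trans (range_objC D).le)

theorem existsUnique_clopen_of_equivalence (f : X ⟶ Y) (h : (FEt.restrict f).IsEquivalence) (C' : Clopens X) :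
    ∃! C : Clopens Y, f.base ⁻¹' (C : Set Y) = C' := by
  haveI := h
  have hinj : ∀ C D : Clopens Y, f.base ⁻¹' (C : Set Y) = f.base ⁻¹' (D : Set Y) → C = D := fun C D hCD => by
    haveI : IsOpenImmersion (pullback.snd (objC C).hom f) :=
      MorphismProperty.pullback_snd (P := @IsOpenImmersion) _ _ (inferInstanceAs (IsOpenImmersion (opOf C).ι))
    haveI : IsOpenImmersion (pullback.snd (objC D).hom f) :=
      MorphismProperty.pullback_snd (P := @IsOpenImmersion) _ _ (inferInstanceAs (IsOpenImmersion (opOf D).ι))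
    have hr : Set.range (pullback.snd (objC C).hom f).base = Set.range (pullback.snd (objC D).hom f).base := by
      rw [range_snd, range_snd]
      show f.base ⁻¹' Set.range (opOf C).ι = f.base ⁻¹' Set.range (opOf D).ι
      rw [Scheme.Opens.range_ι, Scheme.Opens.range_ι]
      exact hCD
    haveI : IsOpenImmersion ((FEt.restrict f).obj (objC C)).hom := ‹IsOpenImmersion (pullback.snd (objC C).hom f)›
    haveI : IsOpenImmersion ((FEt.restrict f).obj (objC D)).hom := ‹IsOpenImmersion (pullback.snd (objC D).hom f)›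
    let e : (FEt.restrict f).obj (objC C) ≅ (FEt.restrict f).obj (objC D) :=
      MorphismProperty.Over.isoMk (IsOpenImmersion.isoOfRangeEq ((FEt.restrict f).obj (objC C)).hom ((FEt.restrict f).obj (objC D)).hom hr)
        (IsOpenImmersion.isoOfRangeEq_hom_fac _ _ _)
    let e' : objC C ≅ objC D := (FEt.restrict f).preimageIso e
    exact SetLike.coe_injective ((eq_of_iso e').antisymm (eq_of_iso e'.symm))
  let Z := (FEt.restrict f).objPreimage (objC C')
  let e := (FEt.restrict f).objObjPreimageIso (objC C')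
  haveI : IsFinite (show Z.left ⟶ Y from Z.hom) := Z.prop.1
  haveI : Etale (show Z.left ⟶ Y from Z.hom) := Z.prop.2
  have hZ : IsClopen (Set.range Z.hom.base) :=
    ⟨(show Z.left ⟶ Y from Z.hom).isClosedMap.isClosed_range, (show Z.left ⟶ Y from Z.hom).isOpenMap.isOpen_range⟩
  have hpre : f.base ⁻¹' Set.range Z.hom.base = C' := by
    rw [← range_snd, ← range_objC C']
    exact (range_subset_of_hom e.hom).antisymm (range_subset_of_hom e.inv)
  exact ⟨⟨_, hZ⟩, hpre, fun D hD => hinj D ⟨_, hZ⟩ (hD.trans hpre.symm)⟩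

theorem isHomeomorph_connectedComponentsMap [CompactSpace X] [QuasiSeparatedSpace X] [CompactSpace Y]
    [QuasiSeparatedSpace Y] (f : X ⟶ Y) (h : ∀ C' : Clopens X, ∃! C : Clopens Y, f.base ⁻¹' (C : Set Y) = C') :
    IsHomeomorph f.continuous.connectedComponentsMap := by
  haveI := PtTopLib.t2Space_connectedComponents (X := Y) fun y => PtTopLib.connectedComponent_eq_sInter y
  rw [isHomeomorph_iff_continuous_bijective]
  refine ⟨Continuous.connectedComponentsMap_continuous _, ?_, fun c => ?_⟩
  · intro a b hab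
    obtain ⟨x, rfl⟩ := ConnectedComponents.surjective_coe a
    obtain ⟨x', rfl⟩ := ConnectedComponents.surjective_coe b
    have hab' : f.base x ∈ connectedComponent (f.base x') :=
      ConnectedComponents.coe_eq_coe'.1 hab
    refine ConnectedComponents.coe_eq_coe'.2 ?_
    rw [PtTopLib.connectedComponent_eq_sInter]
    rintro Z ⟨hZ, hx'⟩
    obtain ⟨C, hC, -⟩ := h ⟨Z, hZ⟩
    have h1 : f.base x' ∈ (C : Set Y) := hC.ge hx'
    exact hC.le (C.isClopen.connectedComponent_subset h1 hab')
  · obtain ⟨y, rfl⟩ := ConnectedComponents.surjective_coe c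
    by_contra! hne
    have hsep : ∀ x : X, ∃ Z : Set Y, IsClopen Z ∧ y ∈ Z ∧ f.base x ∉ Z := fun x => by
      by_contra! hc
      refine hne (x : ConnectedComponents X) (ConnectedComponents.coe_eq_coe'.2 ?_)
      rw [PtTopLib.connectedComponent_eq_sInter]
      exact fun Z hZ => hc Z hZ.1 hZ.2
    choose Z hZ hyZ hxZ using hsep
    obtain ⟨t, ht⟩ := (isCompact_univ (X := X)).elim_finite_subcover (fun x => f.base ⁻¹' (Z x)ᶜ)
      (fun x => (hZ x).compl.2.preimage f.continuous) fun x _ => Set.mem_iUnion.2 ⟨x, hxZ x⟩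
    let W : Clopens Y := ⟨⋂ x ∈ t, Z x, isClopen_biInter_finset fun x _ => hZ x⟩
    obtain ⟨C, -, hu⟩ := h ⟨∅, isClopen_empty⟩
    have hW := hu W (Set.eq_empty_of_forall_notMem fun x hx => by
      obtain ⟨i, hi, hxi⟩ := Set.mem_iUnion₂.1 (ht (Set.mem_univ x))
      exact hxi (Set.mem_iInter₂.1 hx i hi))
    have h0 := hu ⟨∅, isClopen_empty⟩ Set.preimage_empty
    have : y ∈ (∅ : Set Y) := by
      rw [show (∅ : Set Y) = (W : Set Y) from congrArg SetLike.coe (h0.trans hW.symm)]
      exact Set.mem_iInter₂.2 fun x _ => hyZ x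
    exact this

end ClopenFFLib
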