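import Groth.Prelude.Def_FEt
import Mathlib.AlgebraicGeometry.Limits
import Mathlib.AlgebraicGeometry.GammaSpecAdjunction
import Mathlib.RingTheory.Etale.Pi

/-!
# Idempotents along morphisms with fully faithful restriction of finite étale covers
-/

set_option autoImplicit false
set_option linter.style.haveILetI false

universe u

open CategoryTheory CategoryTheory.Limits AlgebraicGeometry

noncomputable section

namespace ClopenFFLib

/-- The functions on two points. -/
abbrev Two : Type u := Fin 2 → ULift.{u} ℤ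

/-- The map from the functions on two points given by an idempotent. -/
def idemHom {S : Type u} [CommRing S] {e : S} (he : IsIdempotentElem e) : Two.{u} →+* S where
  toFun x := ((x 0).down : S) * e + ((x 1).down : S) * (1 - e)
  map_one' := by simp
  map_zero' := by simp
  map_add' x y := by simp; ring
  map_mul' x y := by
    simp only [Pi.mul_apply, ULift.mul_down, Int.cast_mul]
    linear_combination (-((x 0).down : S) * (y 0).down + ((x 0).down : S) * (y 1).down +
      ((x 1).down : S) * (y 0).down - ((x 1).down : S) * (y 1).down) * he.eq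

theorem idemHom_single {S : Type u} [CommRing S] {e : S} (he : IsIdempotentElem e) :
    idemHom he (Pi.single 0 1) = e := by
  simp [idemHom]

theorem two_hom_ext {S : Type u} [CommRing S] {φ ψ : Two.{u} →+* S}
    (h : φ (Pi.single 0 1) = ψ (Pi.single 0 1)) : φ = ψ := by
  refine RingHom.ext fun x => ?_
  have hx : x = ((x 0).down : Two.{u}) * Pi.single 0 1 + ((x 1).down : Two.{u}) * (1 - Pi.single 0 1) := by
    funext i
    fin_cases i <;> simp <;> rfl
  rw [hx]
  simp only [map_add, map_mul, map_sub, map_one, map_intCast, h]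

/-- The two-point scheme. -/
abbrev TwoPt : Scheme.{u} := Spec (CommRingCat.of Two.{u})

/-- The structure map of the two-point scheme. -/
abbrev twoPtStr : TwoPt.{u} ⟶ Spec (CommRingCat.of (ULift.{u} ℤ)) :=
  Spec.map (CommRingCat.ofHom (algebraMap (ULift.{u} ℤ) Two.{u}))

theorem twoPtStr_prop : FEt.prop twoPtStr.{u} := by
  refine ⟨?_, ?_⟩
  · refine (IsFinite.SpecMap_iff _).2 ?_
    exact RingHom.finite_algebraMap.2 inferInstance
  · refine (HasRingHomProperty.Spec_iff (P := @Etale)).2 ?_
    exact RingHom.etale_algebraMap.2 inferInstance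

/-- The morphism to the two-point scheme given by an idempotent. -/
def idemPt {Y : Scheme.{u}} {e : Γ(Y, ⊤)} (he : IsIdempotentElem e) : Y ⟶ TwoPt.{u} :=
  Y.toSpecΓ ≫ Spec.map (CommRingCat.ofHom (idemHom he))

/-- The idempotent of a morphism to the two-point scheme. -/
def ptIdem {Y : Scheme.{u}} (m : Y ⟶ TwoPt.{u}) : Γ(Y, ⊤) :=
  ((Scheme.ΓSpecIso (CommRingCat.of Two.{u})).inv ≫ m.appTop).hom (Pi.single 0 1)

theorem isIdempotentElem_ptIdem {Y : Scheme.{u}} (m : Y ⟶ TwoPt.{u}) : IsIdempotentElem (ptIdem m) := by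
  show _ = _
  rw [ptIdem, ← map_mul, ← Pi.single_mul, one_mul]

theorem ptIdem_idemPt {Y : Scheme.{u}} {e : Γ(Y, ⊤)} (he : IsIdempotentElem e) : ptIdem (idemPt he) = e := by
  rw [ptIdem, idemPt, Scheme.Hom.comp_appTop, Scheme.toSpecΓ_appTop, ← Category.assoc,
    ← Scheme.ΓSpecIso_inv_naturality, Category.assoc, Iso.inv_hom_id, Category.comp_id]
  exact idemHom_single he

theorem ptIdem_comp {Y Y' : Scheme.{u}} (g : Y' ⟶ Y) (m : Y ⟶ TwoPt.{u}) :
    ptIdem (g ≫ m) = g.appTop (ptIdem m) := by
  rw [ptIdem, Scheme.Hom.comp_appTop]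
  rfl

theorem pt_ext {Y : Scheme.{u}} {m m' : Y ⟶ TwoPt.{u}} (h : ptIdem m = ptIdem m') : m = m' :=
  ext_to_Spec (CommRingCat.hom_ext (two_hom_ext h))

variable {X' X : Scheme.{u}} (f : X' ⟶ X)

/-- The constant cover with two points. -/
def twoCover : FEt.Cat X :=
  MorphismProperty.Over.mk ⊤ (pullback.fst (specULiftZIsTerminal.from X) twoPtStr.{u})
    (MorphismProperty.pullback_fst _ _ twoPtStr_prop)

/-- A morphism to the two-point scheme as a morphism to the constant cover. -/
def toTwoCover (Y : FEt.Cat X) (m : Y.left ⟶ TwoPt.{u}) : Y ⟶ twoCover :=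
  MorphismProperty.Over.homMk (pullback.lift Y.hom m (specULiftZIsTerminal.hom_ext _ _))
    (pullback.lift_fst _ _ _)

/-- Idempotents of the restriction of a cover come uniquely from the cover, for fully faithful restriction. -/
theorem existsUnique_idem_of_full_faithful (h : (FEt.restrict f).Full ∧ (FEt.restrict f).Faithful)
    (Y : FEt.Cat X) {e : Γ(pullback Y.hom f, ⊤)} (he : IsIdempotentElem e) :
    (∃ e' : Γ(Y.left, ⊤), IsIdempotentElem e' ∧ (pullback.fst Y.hom f).appTop e' = e) ∧
      ∀ e₁ e₂ : Γ(Y.left, ⊤), IsIdempotentElem e₁ → IsIdempotentElem e₂ →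
        (pullback.fst Y.hom f).appTop e₁ = (pullback.fst Y.hom f).appTop e₂ → e₁ = e₂ := by
  haveI := h.1
  haveI := h.2
  let p₁ := pullback.fst (specULiftZIsTerminal.from X) twoPtStr.{u}
  let p₂ := pullback.snd (specULiftZIsTerminal.from X) twoPtStr.{u}
  have hmap : ∀ a : Y ⟶ twoCover (X := X), ((FEt.restrict f).map a).left ≫ pullback.fst p₁ f =
      pullback.fst Y.hom f ≫ a.left := fun a => pullback.lift_fst _ _ _
  constructor
  · let m := idemPt he
    let ψ : (FEt.restrict f).obj Y ⟶ (FEt.restrict f).obj (twoCover (X := X)) :=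
      MorphismProperty.Over.homMk (pullback.lift (pullback.lift (pullback.snd Y.hom f ≫ f) m
          (specULiftZIsTerminal.hom_ext _ _)) (pullback.snd Y.hom f) (pullback.lift_fst _ _ _))
        (pullback.lift_snd _ _ _)
    obtain ⟨a, ha⟩ := Functor.map_surjective (FEt.restrict f) ψ
    refine ⟨ptIdem (a.left ≫ p₂), isIdempotentElem_ptIdem _, ?_⟩
    have h1 : pullback.fst Y.hom f ≫ a.left ≫ p₂ = m := by
      have h2 := hmap a
      rw [ha] at h2
      rw [← Category.assoc, ← h2]
      exact (congrArg (· ≫ p₂) (pullback.lift_fst _ _ _)).trans (pullback.lift_snd _ _ _)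
    rw [← ptIdem_comp]
    exact (congrArg ptIdem h1).trans (ptIdem_idemPt he)
  · intro e₁ e₂ he₁ he₂ heq
    have hm : pullback.fst Y.hom f ≫ idemPt he₁ = pullback.fst Y.hom f ≫ idemPt he₂ := pt_ext (by
      rw [ptIdem_comp, ptIdem_comp, ptIdem_idemPt, ptIdem_idemPt, heq])
    have hres : (FEt.restrict f).map (toTwoCover Y (idemPt he₁)) =
        (FEt.restrict f).map (toTwoCover Y (idemPt he₂)) := by
      refine MorphismProperty.Over.Hom.ext (pullback.hom_ext ((hmap _).trans (Eq.trans ?_ (hmap _).symm))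
        ((pullback.lift_snd _ _ _).trans (pullback.lift_snd _ _ _).symm))
      refine pullback.hom_ext ?_ ?_
      · exact (Category.assoc _ _ _).trans ((congrArg (_ ≫ ·) ((pullback.lift_fst _ _ _).trans
          (pullback.lift_fst _ _ _).symm)).trans (Category.assoc _ _ _).symm)
      · exact (Category.assoc _ _ _).trans ((congrArg (_ ≫ ·) (pullback.lift_snd _ _ _)).trans (hm.trans
          ((congrArg (_ ≫ ·) (pullback.lift_snd _ _ _).symm).trans (Category.assoc _ _ _).symm)))
    have h3 := congrArg (fun a => a.left ≫ p₂) (Functor.map_injective _ hres)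
    have h4 := congrArg ptIdem ((pullback.lift_snd _ _ _).symm.trans (h3.trans (pullback.lift_snd _ _ _)))
    rwa [ptIdem_idemPt, ptIdem_idemPt] at h4

end ClopenFFLib
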