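import Groth.Agent.ClopenFFLib.Basic
import Groth.Agent.ClopenFFLib.Topo
import Groth.Agent.ProperClopenLib.Components
import Groth.Agent.ProperClopenLib.HenselGeneral
import Groth.Agent.SubmDescLib.Sections
import Groth.Agent.AzInvLib.Local
import Groth.Agent.EtLocLib.Algebra
import Mathlib.AlgebraicGeometry.Geometrically.Connected

/-!
# Clopen subsets of finite étale covers over henselian local rings
-/

set_option autoImplicit false
set_option linter.style.haveILetI false

universe u

open CategoryTheory CategoryTheory.Limits AlgebraicGeometry TopologicalSpace IsLocalRing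

noncomputable section

namespace ClopenFFLib

variable (A : Type u) [CommRing A] [HenselianLocalRing A]

/-- The inclusion of the closed point. -/
abbrev i0 : Spec (CommRingCat.of (A ⧸ maximalIdeal A)) ⟶ Spec (CommRingCat.of A) :=
  Spec.map (CommRingCat.ofHom (Ideal.Quotient.mk (maximalIdeal A)))

theorem clopenBij_of_henselian {X : Scheme.{u}} (f : X ⟶ Spec (CommRingCat.of A)) [IsProper f]
    [GeometricallyConnected (pullback.snd f (i0 A))] : ClopenBij f := by
  intro Y C'
  haveI : IsClosedImmersion (i0 A) := IsClosedImmersion.spec_of_surjective _ Ideal.Quotient.mk_surjective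
  let g : Y.left ⟶ Spec (CommRingCat.of A) := Y.hom
  haveI : IsFinite g := Y.prop.1
  let pr : pullback g f ⟶ Y.left := pullback.fst g f
  haveI : IsProper pr := MorphismProperty.pullback_fst g f ‹IsProper f›
  let qY : pullback g (i0 A) ⟶ Y.left := pullback.fst g (i0 A)
  let q' : pullback pr qY ⟶ pullback g f := pullback.fst pr qY
  let m : pullback pr qY ⟶ pullback g (i0 A) := pullback.snd pr qY
  haveI : IsClosedImmersion qY := MorphismProperty.pullback_fst g _ ‹IsClosedImmersion (i0 A)›
  haveI : IsClosedImmersion q' := MorphismProperty.pullback_fst pr _ ‹IsClosedImmersion qY›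
  have hY : ProperClopenLib.Lifts qY.base := ProperClopenLib.lifts_fst g (maximalIdeal A)
  haveI : IsProper (pr ≫ g) := inferInstance
  haveI : IsClosedImmersion (pullback.fst (pr ≫ g) (i0 A)) :=
    MorphismProperty.pullback_fst (pr ≫ g) _ ‹IsClosedImmersion (i0 A)›
  have hP : ProperClopenLib.Lifts q'.base :=
    (ProperClopenLib.lifts_fst (pr ≫ g) (maximalIdeal A)).congr_range
      (pullback.fst (pr ≫ g) (i0 A)).isEmbedding q'.isEmbedding (by
        show Set.range (pullback.fst (pr ≫ g) (i0 A)) = Set.range q'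
        rw [Scheme.Pullback.range_fst, show q' = pullback.fst pr qY from rfl, Scheme.Pullback.range_fst,
          show Set.range qY = g ⁻¹' Set.range (i0 A) from Scheme.Pullback.range_fst _ _, ← Set.preimage_comp]
        rfl)
  have sq1 : IsPullback (q' ≫ pullback.snd g f) m f (pullback.snd g (i0 A) ≫ i0 A) := by
    rw [← pullback.condition]
    exact (IsPullback.of_hasPullback pr qY).paste_horiz (IsPullback.of_hasPullback g f).flip
  have sq2 := IsPullback.of_hasPullback f (i0 A)
  let l : pullback pr qY ⟶ pullback f (i0 A) :=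
    pullback.lift (q' ≫ pullback.snd g f) (m ≫ pullback.snd g (i0 A))
      (by rw [sq1.w, Category.assoc])
  have sq3 : IsPullback l m (pullback.snd f (i0 A)) (pullback.snd g (i0 A)) := by
    refine IsPullback.of_right ?_ (pullback.lift_snd _ _ _) sq2
    rw [pullback.lift_fst]
    exact sq1
  haveI : GeometricallyConnected m := MorphismProperty.of_isPullback sq3 ‹GeometricallyConnected (pullback.snd f (i0 A))›
  haveI : IsProper m := MorphismProperty.pullback_snd pr qY ‹IsProper pr›
  obtain ⟨D, hD, hDu⟩ := existsUnique_clopen_of_quotientMap m.base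
    (m.isClosedMap.isQuotientMap m.continuous m.surjective)
    (fun y => (m.isConnected_preimage_singleton y).isPreconnected)
    ⟨q'.base ⁻¹' (C' : Set ↥(pullback g f)), C'.isClopen.preimage q'.continuous⟩
  obtain ⟨C, ⟨hC, hCD⟩, hCu⟩ := hY (D : Set ↥(pullback g (i0 A))) D.isClopen
  have hsq : ∀ S : Set Y.left, q'.base ⁻¹' (pr.base ⁻¹' S) = m.base ⁻¹' (qY.base ⁻¹' S) := fun S => by
    ext p
    show pr.base (q'.base p) ∈ S ↔ qY.base (m.base p) ∈ S
    rw [← Scheme.Hom.comp_apply, ← Scheme.Hom.comp_apply, pullback.condition]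
  refine ⟨⟨C, hC⟩, ?_, fun C₂ hC₂ => ?_⟩
  · show pr.base ⁻¹' C = C'
    refine hP.preimage_injective (hC.preimage pr.continuous) C'.isClopen q'.continuous ?_
    rw [hsq, hCD]
    exact hD
  · refine SetLike.coe_injective (hCu _ ⟨C₂.isClopen, ?_⟩)
    refine congrArg SetLike.coe (hDu ⟨qY.base ⁻¹' (C₂ : Set ↥Y.left), C₂.isClopen.preimage qY.continuous⟩ ?_)
    show m.base ⁻¹' (qY.base ⁻¹' (C₂ : Set ↥Y.left)) = q'.base ⁻¹' (C' : Set ↥(pullback g f))
    rw [← hsq]
    exact congrArg (q'.base ⁻¹' ·) hC₂

variable {A} [IsSepClosed (ResidueField A)]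

theorem exists_section_through {Z : Scheme.{u}} (g : Z ⟶ Spec (CommRingCat.of A)) [Etale g] (z : Z)
    (hz : g.base z = closedPoint A) :
    ∃ σ : Spec (CommRingCat.of A) ⟶ Z, σ ≫ g = 𝟙 _ ∧ z ∈ Set.range σ.base := by
  let S := Spec (CommRingCat.of A)
  obtain ⟨ψ, hψ⟩ : ∃ ψ : CommRingCat.of A ⟶ CommRingCat.of (S.residueField (g.base z) : Type u),
      Spec.map ψ = S.fromSpecResidueField (g.base z) := Spec.map_surjective _
  haveI : IsClosedImmersion (Spec.map ψ) := by
    rw [hψ]
    refine IsClosedImmersion.of_isPreimmersion _ ?_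
    rw [Scheme.range_fromSpecResidueField, hz]
    exact isClosed_singleton_closedPoint (R := A)
  have hsurj : Function.Surjective ψ.hom := EtLocLib.surjective_of_isClosedImmersion ψ
  haveI : IsSepClosed (S.residueField (g.base z)) := by
    have hker : RingHom.ker ψ.hom = maximalIdeal A :=
      eq_maximalIdeal (RingHom.ker_isMaximal_of_surjective (R := A) ψ.hom hsurj)
    let e : ResidueField A →+* S.residueField (g.base z) :=
      Ideal.Quotient.lift (maximalIdeal A) ψ.hom fun a ha => by rwa [← RingHom.mem_ker, hker]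
    exact AzInvLib.isSepClosed_of_ringEquiv (RingEquiv.ofBijective e
      ⟨e.injective, Ideal.Quotient.lift_surjective_of_surjective _ _ hsurj⟩)
  letI : Algebra (S.residueField (g.base z)) (Z.residueField z) := (g.residueFieldMap z).hom.toAlgebra
  have hbij : Function.Bijective (g.residueFieldMap z) :=
    ⟨(g.residueFieldMap z).hom.injective,
      IsSepClosed.algebraMap_surjective (S.residueField (g.base z)) (Z.residueField z)⟩
  haveI : IsIso (g.residueFieldMap z) := (ConcreteCategory.isIso_iff_bijective _).2 hbij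
  let w : Spec (CommRingCat.of (S.residueField (g.base z) : Type u)) ⟶ Z :=
    Spec.map (inv (g.residueFieldMap z)) ≫ Z.fromSpecResidueField z
  have hw : w ≫ g = Spec.map (CommRingCat.ofHom ψ.hom) := by
    rw [CommRingCat.ofHom_hom, hψ, Category.assoc, ← Scheme.Hom.SpecMap_residueFieldMap_fromSpecResidueField,
      ← Spec.map_comp_assoc, IsIso.hom_inv_id, Spec.map_id]
    exact Category.id_comp _
  obtain ⟨σ, hσ, hσw⟩ := SubmDescLib.exists_hensel_section ψ.hom hsurj g w hw
  refine ⟨σ, hσ, Spec.map (CommRingCat.ofHom ψ.hom) (closedPoint (S.residueField (g.base z))), ?_⟩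
  rw [← Scheme.Hom.comp_apply, hσw, Scheme.Hom.comp_apply, Scheme.fromSpecResidueField_apply]

/-- Finite étale schemes over strictly henselian local rings have the same clopen subsets as their
fibres over any geometric point. -/
theorem existsUnique_clopen_geomPoint {Z : Scheme.{u}} (g : Z ⟶ Spec (CommRingCat.of A)) [IsFinite g]
    [Etale g] {Ω : Type u} [Field Ω] (t : Spec (CommRingCat.of Ω) ⟶ Spec (CommRingCat.of A))
    (C' : Clopens ↥(pullback g t)) : ∃! C : Clopens Z, (pullback.fst g t).base ⁻¹' (C : Set Z) = C' := by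
  let ι := {σ : Spec (CommRingCat.of A) ⟶ Z // σ ≫ g = 𝟙 _}
  have ho : ∀ σ : ι, IsOpenImmersion σ.1 := fun σ => FFDescLib.isOpenImmersion_of_section g σ.1 σ.2
  have hc : ∀ σ : ι, IsClosedImmersion σ.1 := fun σ => by
    haveI : IsClosedImmersion (σ.1 ≫ g) := by rw [σ.2]; infer_instance
    exact IsClosedImmersion.of_comp σ.1 g
  let D : ι → Set Z := fun σ => Set.range σ.1.base
  have hD : ∀ σ, IsClopen (D σ) := fun σ =>
    haveI := ho σ; haveI := hc σ
    ⟨σ.1.isClosedEmbedding.isClosed_range, σ.1.isOpenEmbedding.isOpen_range⟩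
  have hcov : ∀ z, ∃ σ, z ∈ D σ := by
    let U : Z.Opens := ⟨⋃ σ, D σ, isOpen_iUnion fun σ => (hD σ).2⟩
    have hU : U = ⊤ := ProperClopenLib.eq_top_of_closed_fibre g (maximalIdeal A) (le_sInf fun J hJ => (eq_maximalIdeal hJ.2).ge) U fun z hz => by
      obtain ⟨σ, hσ, hzσ⟩ := exists_section_through g z (by
        refine PrimeSpectrum.ext (le_antisymm (le_maximalIdeal (g.base z).isPrime.ne_top) ?_)
        exact hz)
      exact Set.mem_iUnion.2 ⟨⟨σ, hσ⟩, hzσ⟩
    exact fun z => Set.mem_iUnion.1 (hU.ge (Set.mem_univ z))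
  have hfib : ∀ σ : ι, ∃ σ' : Spec (CommRingCat.of Ω) ⟶ pullback g t,
      (pullback.fst g t).base ⁻¹' D σ = Set.range σ'.base := fun σ => by
    let σ' : Spec (CommRingCat.of Ω) ⟶ pullback g t := pullback.lift (t ≫ σ.1) (𝟙 _) (by
      rw [Category.assoc, σ.2, Category.comp_id, Category.id_comp])
    refine ⟨σ', ?_⟩
    have h1 : IsPullback σ' t (pullback.fst g t) σ.1 := by
      refine IsPullback.of_right ?_ (pullback.lift_fst _ _ _) (IsPullback.of_hasPullback g t).flip
      rw [σ.2, show σ' ≫ pullback.snd g t = 𝟙 _ from pullback.lift_snd _ _ _]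
      exact IsPullback.of_horiz_isIso ⟨(Category.id_comp t).trans (Category.comp_id t).symm⟩
    show _ ⁻¹' Set.range σ.1 = Set.range σ'
    rw [← Scheme.Pullback.range_fst, ← h1.isoPullback_hom_fst, Scheme.Hom.comp_base, TopCat.coe_comp,
      h1.isoPullback.hom.surjective.range_comp]
  haveI : PreconnectedSpace ↥(Spec (CommRingCat.of A)) := by
    refine preconnectedSpace_iff_clopen.2 fun U hU => ?_
    by_cases h : closedPoint A ∈ U
    · exact Or.inr (Set.eq_univ_of_forall fun x => (specializes_closedPoint x).mem_open hU.2 h)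
    · exact Or.inl (Set.eq_empty_of_forall_notMem fun x hx => h ((specializes_closedPoint x).mem_closed hU.1 hx))
  refine existsUnique_clopen_of_pieces (pullback.fst g t).base D hD
    (fun σ => isPreconnected_range σ.1.continuous) hcov (fun σ => ?_) (fun σ => ?_) C'
  · obtain ⟨σ', h⟩ := hfib σ
    rw [h]
    exact Set.range_nonempty _
  · obtain ⟨σ', h⟩ := hfib σ
    rw [h]
    exact isPreconnected_range σ'.continuous

end ClopenFFLib
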